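import Groth.Agent.H05EGA4.KosTransfer
import Groth.Agent.H05EGA4.GorFibre
import Groth.Agent.H29Slice.KoszulReg
import Groth.Agent.H9CI.RegLocal

/-! The socle of a complete intersection in a regular local ring. -/

set_option autoImplicit false
universe u

open IsLocalRing

namespace Groth.Agent.H8Props.Watanabe

theorem krullDimLE_zero_quotient {T : Type u} [CommRing T] [IsLocalRing T] {I : Ideal T}
    (h : ∀ p : Ideal T, p.IsPrime → I ≤ p → p = maximalIdeal T) : Ring.KrullDimLE 0 (T ⧸ I) := by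
  rw [Ring.krullDimLE_zero_iff]
  intro p hp
  letI : Algebra T (T ⧸ I) := Ideal.Quotient.algebra T
  refine Ideal.isMaximal_of_isIntegral_of_isMaximal_comap' (Ideal.Quotient.mk I) ?_ p ?_
  · exact RingHom.IsIntegral.of_finite (RingHom.Finite.of_surjective _ Ideal.Quotient.mk_surjective)
  · rw [h (p.comap (Ideal.Quotient.mk I)) inferInstance fun a ha => by
      rw [Ideal.mem_comap, Ideal.Quotient.eq_zero_iff_mem.2 ha]; exact zero_mem p]
    exact maximalIdeal.isMaximal T

/-- The determinant generates the socle. -/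
theorem det_socle {T : Type u} [CommRing T] [IsRegularLocalRing T] {n : ℕ} (f x : Fin n → T)
    (hx : maximalIdeal T = Ideal.span (Set.range x)) (c : Matrix (Fin n) (Fin n) T)
    (hc : ∀ i, f i = ∑ j, c i j * x j) (hdim : ringKrullDim T = n)
    (hf : ∀ i, f i ∈ maximalIdeal T)
    (hmin : ∀ p : Ideal T, p.IsPrime → Ideal.span (Set.range f) ≤ p → p = maximalIdeal T) :
    RingTheory.Sequence.IsRegular T (List.ofFn f) ∧ (∀ j, c.det * x j ∈ Ideal.span (Set.range f)) ∧
      c.det ∉ Ideal.span (Set.range f) ∧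
      ∀ J : Ideal T, Ideal.span (Set.range f) < J → c.det ∈ J := by
  set I := Ideal.span (Set.range f) with hI
  haveI hK := krullDimLE_zero_quotient hmin
  have hIm : I ≤ maximalIdeal T := Ideal.span_le.2 (by rintro _ ⟨i, rfl⟩; exact hf i)
  haveI : Nontrivial (T ⧸ I) :=
    Ideal.Quotient.nontrivial_iff.2 fun e => (maximalIdeal.isMaximal T).ne_top (top_le_iff.1 (e.ge.trans hIm))
  haveI : IsLocalRing (T ⧸ I) := IsLocalRing.of_surjective' (Ideal.Quotient.mk _) Ideal.Quotient.mk_surjective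
  haveI : IsArtinianRing (T ⧸ I) := IsNoetherianRing.isArtinianRing_of_krullDimLE_zero
  have hreg : RingTheory.Sequence.IsRegular T (List.ofFn f) := H9CI.isRegular_of_dim_le f hf (by
    refine (add_le_add_left (Ring.krullDimLE_iff.1 hK) _).trans ?_
    simp [hdim])
  have hex := H05EGA4.KosTransfer.exact_of_ofFn f
    (H29Slice.isKoszulRegular_of_isWeaklyRegular hreg.toIsWeaklyRegular)
  have hcx : ∀ j, c.det * x j ∈ I := fun j => by
    have e : c.det • x = c.adjugate.mulVec f := by
      have hv : f = c.mulVec x := funext hc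
      rw [hv, Matrix.mulVec_mulVec, Matrix.adjugate_mul, Matrix.smul_mulVec, Matrix.one_mulVec]
    rw [show c.det * x j = (c.det • x) j from rfl, e]
    simp only [Matrix.mulVec, dotProduct]
    exact sum_mem fun i _ => Ideal.mul_mem_left I _ (Ideal.subset_span (Set.mem_range_self i))
  have key : ∀ J : Ideal T, I < J → ∃ y ∈ J, y ∉ I ∧ ∃ r, y - r * c.det ∈ I := fun J hJ => by
    have hne : J.map (Ideal.Quotient.mk I) ≠ ⊥ := fun e => hJ.not_ge (by
      rwa [Ideal.map_eq_bot_iff_le_ker, Ideal.mk_ker] at e)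
    obtain ⟨y', hy', hy0, hsoc⟩ := H05EGA4.GorFibre.exists_socle_mem hne
    obtain ⟨y, rfl⟩ := Ideal.Quotient.mk_surjective y'
    have hyJ : y ∈ J := by
      have h1 : y ∈ (J.map (Ideal.Quotient.mk I)).comap (Ideal.Quotient.mk I) := hy'
      rwa [Ideal.comap_map_of_surjective _ Ideal.Quotient.mk_surjective, ← RingHom.ker_eq_comap_bot,
        Ideal.mk_ker, sup_eq_left.2 hJ.le] at h1
    refine ⟨y, hyJ, fun h => hy0 (Ideal.Quotient.eq_zero_iff_mem.2 h), ?_⟩
    have h2 := H05EGA4.KosModel.colon_le_det f x hex c hc y fun j => Ideal.Quotient.eq_zero_iff_mem.1 (by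
      rw [mul_comm, map_mul]
      refine hsoc _ ?_
      rw [← IsLocalRing.map_maximalIdeal_of_surjective (Ideal.Quotient.mk I) Ideal.Quotient.mk_surjective]
      exact Ideal.mem_map_of_mem _ (hx ▸ Ideal.subset_span ⟨j, rfl⟩))
    obtain ⟨a, ha, b, hb, e⟩ := Submodule.mem_sup.1 h2
    obtain ⟨r, rfl⟩ := Ideal.mem_span_singleton'.1 hb
    exact ⟨r, by rw [← e, add_sub_cancel_right]; exact ha⟩
  have hdet : c.det ∉ I := fun h => by
    obtain ⟨y, -, hy, r, hr⟩ := key ⊤ (lt_top_iff_ne_top.2 fun e => (maximalIdeal.isMaximal T).ne_top (top_le_iff.1 (e.ge.trans hIm)))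
    exact hy (by simpa using add_mem hr (Ideal.mul_mem_left I r h))
  refine ⟨hreg, hcx, hdet, fun J hJ => ?_⟩
  obtain ⟨y, hyJ, hy, r, hr⟩ := key J hJ
  by_cases hu : IsUnit r
  · refine (Ideal.unit_mul_mem_iff_mem J hu).1 ?_
    simpa using sub_mem hyJ (hJ.le hr)
  · refine absurd ?_ hy
    have hrI : r * c.det ∈ I := by
      have h1 : r ∈ Ideal.span (Set.range x) := hx ▸ (mem_maximalIdeal r).2 hu
      obtain ⟨b, rfl⟩ := (Ideal.mem_span_range_iff_exists_fun).1 h1
      rw [Finset.sum_mul]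
      exact sum_mem fun j _ => by rw [mul_assoc, mul_comm (x j)]; exact Ideal.mul_mem_left _ _ (hcx j)
    simpa using add_mem hr hrI

end Groth.Agent.H8Props.Watanabe
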