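import Mathlib

/-! Invariants of a finite group of order invertible: retraction, norms and heights. -/

set_option autoImplicit false
universe u v w

open scoped Pointwise

namespace Groth.Agent.H8Props.Watanabe

variable {A : Type u} {S : Type v} {G : Type w} [CommRing A] [CommRing S] [Algebra A S] [Group G] [Finite G]
  [MulSemiringAction G S] [SMulCommClass G A S] [Algebra.IsInvariant A S G] [FaithfulSMul A S]

omit [FaithfulSMul A S] in
/-- The average of a vector with invariant image. -/
theorem exists_average [FaithfulSMul A S] (hu : IsUnit ((Nat.card G : ℕ) : A)) :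
    ∃ π : S →ₗ[A] A, π 1 = 1 := by
  classical
  haveI := Fintype.ofFinite G
  obtain ⟨c, hc⟩ := hu.exists_left_inv
  let L : S →ₗ[A] S := ∑ g : G, DistribSMul.toLinearMap A S g
  have hL : ∀ (s : S) (g : G), g • L s = L s := fun s g => by
    simp only [L, LinearMap.sum_apply, DistribSMul.toLinearMap_apply, Finset.smul_sum, smul_smul]
    exact Fintype.sum_equiv (Equiv.mulLeft g) _ _ fun h => rfl
  choose b hb using fun s => Algebra.IsInvariant.isInvariant (A := A) (B := S) (G := G) (L s) (hL s)
  have hinj := FaithfulSMul.algebraMap_injective A S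
  let π : S →ₗ[A] A :=
    { toFun := fun s => c * b s
      map_add' := fun x y => hinj (by simp only [map_mul, map_add, hb, mul_add])
      map_smul' := fun a x => hinj (by
        simp only [RingHom.id_apply, smul_eq_mul, map_mul, hb, map_smul]
        rw [Algebra.smul_def]
        ring) }
  refine ⟨π, hinj ?_⟩
  show algebraMap A S (c * b 1) = _
  rw [map_mul, hb]
  simp only [L, LinearMap.sum_apply, DistribSMul.toLinearMap_apply, smul_one, Finset.sum_const, Finset.card_univ,
    nsmul_eq_mul, mul_one, ← Nat.card_eq_fintype_card]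
  rw [← map_natCast (algebraMap A S), ← map_mul, hc]

omit [Group G] [Finite G] [MulSemiringAction G S] [SMulCommClass G A S] [Algebra.IsInvariant A S G] [FaithfulSMul A S] in
/-- Ideals are contracted under a retraction. -/
theorem mem_of_mem_map {π : S →ₗ[A] A} (hπ : π 1 = 1) {I : Ideal A} {a : A}
    (h : algebraMap A S a ∈ I.map (algebraMap A S)) : a ∈ I := by
  have key : ∀ x ∈ I.map (algebraMap A S), π x ∈ I := by
    intro x hx
    induction hx using Submodule.span_induction with
    | mem y hy =>
      obtain ⟨b, hb, rfl⟩ := hy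
      rw [Algebra.algebraMap_eq_smul_one, map_smul, hπ, smul_eq_mul, mul_one]
      exact hb
    | zero => simp
    | add x y _ _ hx hy => rw [map_add]; exact add_mem hx hy
    | smul s y hy _ =>
      change y ∈ I.map (algebraMap A S) at hy
      have hm : s • y ∈ I • (⊤ : Submodule A S) := by
        rw [Ideal.smul_top_eq_map, Submodule.restrictScalars_mem]
        exact Ideal.mul_mem_left _ _ hy
      have := Submodule.mem_map_of_mem (f := π) hm
      rw [Submodule.map_smul''] at this
      exact (Submodule.smul_le.2 fun r hr n _ => I.mul_mem_right n hr) this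
  have := key _ h
  rwa [Algebra.algebraMap_eq_smul_one, map_smul, hπ, smul_eq_mul, mul_one] at this

omit [Group G] [Finite G] [MulSemiringAction G S] [SMulCommClass G A S] [Algebra.IsInvariant A S G] [FaithfulSMul A S] in
theorem isNoetherianRing_of_retraction [IsNoetherianRing S] {π : S →ₗ[A] A} (hπ : π 1 = 1) : IsNoetherianRing A := by
  rw [isNoetherianRing_iff, isNoetherian_iff]
  let F : Ideal A →o Ideal S := ⟨fun I => I.map (algebraMap A S), fun _ _ h => Ideal.map_mono h⟩
  have hF : Function.Injective F := fun I J h => le_antisymm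
    (fun a ha => mem_of_mem_map hπ ((h.le : I.map (algebraMap A S) ≤ J.map (algebraMap A S))
      (Ideal.mem_map_of_mem _ ha)))
    (fun a ha => mem_of_mem_map hπ ((h.ge : J.map (algebraMap A S) ≤ I.map (algebraMap A S))
      (Ideal.mem_map_of_mem _ ha)))
  haveI : WellFoundedGT (Ideal S) := (isNoetherianRing_iff.1 inferInstance : IsNoetherian S S).wellFoundedGT
  exact (F.monotone.strictMono_of_injective hF).wellFoundedGT.wf

omit [FaithfulSMul A S] in
/-- Elements outside a stable prime divide invariant elements outside it. -/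
theorem exists_norm (P : Ideal S) [P.IsPrime] (hP : ∀ g : G, ∀ x ∈ P, g • x ∈ P) {s : S} (hs : s ∉ P) :
    ∃ (N : A) (t : S), algebraMap A S N = t * s ∧ N ∉ P.under A := by
  classical
  haveI := Fintype.ofFinite G
  have hfix : ∀ g : G, g • (∏ h : G, h • s) = ∏ h : G, h • s := fun g => by
    rw [Finset.smul_prod']
    exact Fintype.prod_equiv (Equiv.mulLeft g) _ _ fun h => by simp [mul_smul]
  obtain ⟨N, hN⟩ := Algebra.IsInvariant.isInvariant (A := A) (B := S) (G := G) _ hfix
  refine ⟨N, ∏ h ∈ Finset.univ.erase (1 : G), h • s, ?_, fun h => ?_⟩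
  · rw [hN, ← Finset.prod_erase_mul _ _ (Finset.mem_univ (1 : G)), one_smul]
  · rw [Ideal.under, Ideal.mem_comap, hN] at h
    obtain ⟨g, -, hg⟩ := (inferInstance : P.IsPrime).prod_mem_iff.1 h
    have := hP g⁻¹ _ hg
    rw [inv_smul_smul] at this
    exact hs this

omit [FaithfulSMul A S] in
/-- A stable prime is the only prime over its contraction. -/
theorem eq_of_under_eq (P : Ideal S) [P.IsPrime] (hP : ∀ g : G, ∀ x ∈ P, g • x ∈ P) (Q : Ideal S) [Q.IsPrime]
    (h : Q.under A = P.under A) : Q = P := by
  obtain ⟨g, hg⟩ := Algebra.IsInvariant.exists_smul_of_under_eq A S G P Q h.symm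
  rw [hg]
  refine le_antisymm (fun x hx => ?_) fun x hx => ?_
  · have := hP g _ (Ideal.mem_pointwise_smul_iff_inv_smul_mem.1 hx)
    rwa [smul_inv_smul] at this
  · rw [Ideal.mem_pointwise_smul_iff_inv_smul_mem]
    exact hP g⁻¹ x hx

omit [Group G] [Finite G] [MulSemiringAction G S] [SMulCommClass G A S] [Algebra.IsInvariant A S G] in
/-- Going up bounds heights below. -/
theorem height_le_of_forall_over [Algebra.IsIntegral A S] :
    ∀ (n : ℕ) (q : Ideal A) [q.IsPrime], (∀ Q : Ideal S, Q.IsPrime → Q.under A = q → Q.height ≤ n) → q.height ≤ n := by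
  intro n
  induction n using Nat.strong_induction_on with
  | _ n ih =>
    intro q _ hq
    rw [Ideal.height_le_iff]
    intro q' hq' hlt
    haveI := hq'
    have hQ' : ∀ Q' : Ideal S, Q'.IsPrime → Q'.under A = q' → Q'.height < n := fun Q' hQ' e => by
      haveI := hQ'
      obtain ⟨Q, hle, hQp, hQq⟩ := Ideal.exists_ideal_over_prime_of_isIntegral_of_isPrime q Q' (e.le.trans hlt.le)
      haveI := hQp
      have hne : Q' < Q := lt_of_le_of_ne hle fun h => hlt.ne (by rw [← e, h]; exact hQq)
      have h1 := Ideal.height_add_one_le_of_lt_of_isPrime hne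
      have h2 := h1.trans (hq Q hQp hQq)
      exact (ENat.add_one_le_iff (ne_top_of_le_ne_top (ENat.coe_ne_top n) ((le_add_right le_rfl).trans h2))).1 h2
    obtain ⟨Q₀, -, hQ₀, hQ₀e⟩ := Ideal.exists_ideal_over_prime_of_isIntegral q' (⊥ : Ideal S)
      (by simp [← RingHom.ker_eq_comap_bot, (RingHom.injective_iff_ker_eq_bot _).1 (FaithfulSMul.algebraMap_injective A S)])
    obtain ⟨j, rfl⟩ : ∃ j, n = j + 1 := by
      rcases n with - | j
      · exact absurd (hQ' Q₀ hQ₀ hQ₀e) (by simp)
      · exact ⟨j, rfl⟩
    refine lt_of_le_of_lt (ih j (Nat.lt_succ_self j) q' fun Q' hp e => ?_) (by exact_mod_cast Nat.lt_succ_self j)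
    exact Order.le_of_lt_succ (by simpa using hQ' Q' hp e)

end Groth.Agent.H8Props.Watanabe
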