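import Mathlib

/-! The grading of an invariant subring of a polynomial ring. -/

set_option autoImplicit false
universe u

open MvPolynomial

namespace Groth.Agent.H8Props.Watanabe

variable {k A : Type u} {σ : Type} [CommRing k] [CommRing A] [Algebra A (MvPolynomial σ k)]

/-- The pieces pulled back from the polynomial ring. -/
noncomputable def pieces (d : ℤ) : AddSubgroup A :=
  (⨅ (e : ℕ) (_ : (e : ℤ) ≠ d), (LinearMap.ker (homogeneousComponent (σ := σ) (R := k) e)).toAddSubgroup).comap
    (algebraMap A (MvPolynomial σ k)).toAddMonoidHom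

theorem mem_pieces {d : ℤ} {a : A} : a ∈ pieces (k := k) (σ := σ) d ↔
    ∀ e : ℕ, (e : ℤ) ≠ d → homogeneousComponent e (algebraMap A (MvPolynomial σ k) a) = 0 := by
  simp [pieces, AddSubgroup.mem_iInf]

theorem mem_pieces_natCast {d : ℕ} {a : A} :
    a ∈ pieces (k := k) (σ := σ) (d : ℤ) ↔ (algebraMap A (MvPolynomial σ k) a).IsHomogeneous d := by
  classical
  rw [mem_pieces]
  refine ⟨fun h => ?_, fun h e he => ?_⟩
  · rw [← sum_homogeneousComponent (algebraMap A (MvPolynomial σ k) a)]
    refine IsHomogeneous.sum _ _ _ fun e _ => ?_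
    by_cases he : e = d
    · subst he; exact homogeneousComponent_isHomogeneous _ _
    · rw [h e (by exact_mod_cast he)]; exact isHomogeneous_zero _ _ _
  · rw [homogeneousComponent_of_mem (h : _ ∈ homogeneousSubmodule σ k d), if_neg fun e' => he (by rw [e'])]

variable (hinj : Function.Injective (algebraMap A (MvPolynomial σ k)))
include hinj

theorem pieces_of_neg {d : ℤ} (hd : d < 0) {a : A} (ha : a ∈ pieces (k := k) (σ := σ) d) : a = 0 := by
  classical
  refine hinj ?_
  rw [map_zero, ← sum_homogeneousComponent (algebraMap A (MvPolynomial σ k) a)]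
  exact Finset.sum_eq_zero fun e _ => mem_pieces.1 ha e (by omega)

omit hinj in
theorem graded_one : (1 : A) ∈ pieces (k := k) (σ := σ) (0 : ℤ) := by
  rw [show (0 : ℤ) = ((0 : ℕ) : ℤ) from rfl, mem_pieces_natCast, map_one]
  exact isHomogeneous_one _ _

theorem graded_mul {i j : ℤ} {a b : A} (ha : a ∈ pieces (k := k) (σ := σ) i)
    (hb : b ∈ pieces (k := k) (σ := σ) j) : a * b ∈ pieces (k := k) (σ := σ) (i + j) := by
  rcases lt_or_ge i 0 with hi | hi
  · rw [pieces_of_neg hinj hi ha, zero_mul]; exact zero_mem _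
  rcases lt_or_ge j 0 with hj | hj
  · rw [pieces_of_neg hinj hj hb, mul_zero]; exact zero_mem _
  obtain ⟨i, rfl⟩ := Int.eq_ofNat_of_zero_le hi
  obtain ⟨j, rfl⟩ := Int.eq_ofNat_of_zero_le hj
  rw [mem_pieces_natCast] at ha hb
  rw [← Int.natCast_add, mem_pieces_natCast, map_mul]
  exact ha.mul hb

/-- The pieces form a grading once the subring is stable under homogeneous components. -/
theorem exists_gradedRing (hcomp : ∀ (a : A) (e : ℕ), ∃ b : A,
      algebraMap A (MvPolynomial σ k) b = homogeneousComponent e (algebraMap A (MvPolynomial σ k) a)) :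
    ∃ _ : GradedRing (pieces (A := A) (k := k) (σ := σ)), ∀ (a : A),
      homogeneousComponent 0 (algebraMap A (MvPolynomial σ k) a) = algebraMap A (MvPolynomial σ k)
        (DirectSum.decompose (pieces (A := A) (k := k) (σ := σ)) a 0 : A) := by
  classical
  choose b hb using hcomp
  let 𝒜 := pieces (A := A) (k := k) (σ := σ)
  have hbmem : ∀ (a : A) (e : ℕ), b a e ∈ 𝒜 (e : ℤ) := fun a e => by
    rw [mem_pieces_natCast, hb]; exact homogeneousComponent_isHomogeneous _ _
  haveI : SetLike.GradedMonoid 𝒜 := { one_mem := graded_one, mul_mem := fun _ _ _ _ => graded_mul hinj }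
  have hint : DirectSum.IsInternal 𝒜 := by
    constructor
    · rw [injective_iff_map_eq_zero]
      intro x hx
      ext i
      rw [DirectSum.zero_apply, ZeroMemClass.coe_zero]
      rcases lt_or_ge i 0 with hi | hi
      · exact pieces_of_neg hinj hi (x i).2
      obtain ⟨e, rfl⟩ := Int.eq_ofNat_of_zero_le hi
      have h1 : homogeneousComponent e (algebraMap A (MvPolynomial σ k) (DirectSum.coeAddMonoidHom 𝒜 x)) =
          algebraMap A (MvPolynomial σ k) (x (e : ℤ) : A) := by
        rw [DirectSum.coeAddMonoidHom_eq_dfinsuppSum, DFinsupp.sum, map_sum, map_sum,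
          Finset.sum_eq_single (e : ℤ)]
        · exact homogeneousComponent_eq_self (mem_pieces_natCast.1 (x (e : ℤ)).2)
        · exact fun j _ hj => mem_pieces.1 (x j).2 e (Ne.symm hj)
        · intro h
          rw [DFinsupp.notMem_support_iff.1 h]
          simp
      rw [hx, map_zero, map_zero] at h1
      exact hinj (by rw [← h1, map_zero])
    · intro a
      refine ⟨∑ e ∈ Finset.range ((algebraMap A (MvPolynomial σ k) a).totalDegree + 1),
        DirectSum.of (fun i => 𝒜 i) (e : ℤ) ⟨b a e, hbmem a e⟩, hinj ?_⟩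
      simp only [map_sum, DirectSum.coeAddMonoidHom_of, hb]
      exact sum_homogeneousComponent _
  letI : DirectSum.Decomposition 𝒜 := hint.chooseDecomposition
  refine ⟨{ }, fun a => ?_⟩
  conv_lhs => rw [← DirectSum.sum_support_decompose 𝒜 a, map_sum, map_sum]
  rw [Finset.sum_eq_single (0 : ℤ)]
  · exact homogeneousComponent_eq_self ((mem_pieces_natCast (d := 0)).1 (DirectSum.decompose 𝒜 a 0).2)
  · exact fun j _ hj => mem_pieces.1 (DirectSum.decompose 𝒜 a j).2 0 (by simpa using Ne.symm hj)
  · intro h
    rw [DFinsupp.notMem_support_iff.1 h]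
    simp

end Groth.Agent.H8Props.Watanabe
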