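import Groth.Agent.H02CA.GorRing

/-! Gorenstein lifts along regular sequences. -/

set_option autoImplicit false
universe u

open IsLocalRing LocCoh RingTheory.Sequence

namespace Groth.Agent.H8Props.Watanabe

theorem gor_of_quot_list {A : Type u} [CommRing A] [IsNoetherianRing A] [IsLocalRing A] (rs : List A)
    (hmem : ∀ r ∈ rs, r ∈ maximalIdeal A) (hreg : IsWeaklyRegular A rs)
    (h : IsGorensteinLocalRing (A ⧸ Ideal.ofList rs)) : IsGorensteinLocalRing A := by
  induction rs using List.reverseRecOn with
  | nil => exact H02CA.GorFlat.gor_of_ringEquiv ((Ideal.quotEquivOfEq Ideal.ofList_nil).trans (RingEquiv.quotientBot A)) h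
  | append_singleton l x ih =>
    rw [isWeaklyRegular_append_iff] at hreg
    have hl : Ideal.ofList l ≤ maximalIdeal A :=
      Ideal.span_le.2 fun r hr => hmem r (List.mem_append_left _ hr)
    haveI : Nontrivial (A ⧸ Ideal.ofList l) :=
      Ideal.Quotient.nontrivial_iff.2 fun e => (maximalIdeal.isMaximal A).ne_top (top_le_iff.1 (e.ge.trans hl))
    haveI : IsLocalRing (A ⧸ Ideal.ofList l) :=
      IsLocalRing.of_surjective' (Ideal.Quotient.mk _) Ideal.Quotient.mk_surjective
    refine ih (fun r hr => hmem r (List.mem_append_left _ hr)) hreg.1 ?_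
    have hxreg : IsSMulRegular (A ⧸ Ideal.ofList l) (Ideal.Quotient.mk (Ideal.ofList l) x) := by
      have h1 : IsSMulRegular (A ⧸ (Ideal.ofList l • (⊤ : Submodule A A))) x :=
        ((isWeaklyRegular_cons_iff _ x []).1 hreg.2).1
      rw [show (Ideal.ofList l • (⊤ : Submodule A A)) = Ideal.ofList l by simp] at h1
      intro p q hpq
      refine h1 ?_
      change x • p = x • q
      rw [Algebra.smul_def, Algebra.smul_def, Ideal.Quotient.algebraMap_eq]
      exact hpq
    have hxm : Ideal.Quotient.mk (Ideal.ofList l) x ∈ maximalIdeal (A ⧸ Ideal.ofList l) := by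
      rw [← IsLocalRing.map_maximalIdeal_of_surjective (Ideal.Quotient.mk (Ideal.ofList l)) Ideal.Quotient.mk_surjective]
      exact Ideal.mem_map_of_mem _ (hmem x (by simp))
    refine (H4Goren.isGorensteinLocalRing_quotient_iff hxm hxreg).2 (H02CA.GorFlat.gor_of_ringEquiv ?_ h)
    exact ((Ideal.quotEquivOfEq (by rw [Ideal.map_span, Set.image_singleton])).trans
      ((DoubleQuot.quotQuotEquivQuotSup (Ideal.ofList l) (Ideal.span {x})).trans
        (Ideal.quotEquivOfEq (by rw [Ideal.ofList_append, Ideal.ofList_singleton])))).symm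

end Groth.Agent.H8Props.Watanabe
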