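import Groth.Agent.H8Props.Watanabe.Basic
import Groth.Agent.H8Props.Watanabe.Lift
import Groth.Agent.H8Props.Watanabe.Socle

/-! Watanabe's theorem at a fixed prime. -/

set_option autoImplicit false
universe u

open IsLocalRing

namespace Groth.Agent.H8Props.Watanabe

variable {A S : Type u} {G : Type*} [CommRing A] [CommRing S] [Algebra A S] [Group G] [Finite G]
  [MulSemiringAction G S] [SMulCommClass G A S] [Algebra.IsInvariant A S G] [FaithfulSMul A S]

/-- Averaging the coefficient matrix. -/
theorem exists_invariant_det (hu : IsUnit ((Nat.card G : ℕ) : A)) {n : ℕ} (x : Fin n → S)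
    (M : G → Matrix (Fin n) (Fin n) A) (hmul : ∀ g h, M (g * h) = M g * M h) (hdet : ∀ g, (M g).det = 1)
    (hact : ∀ g i, g • x i = ∑ j, algebraMap A S (M g j i) * x j)
    (h : Fin n → A) (hh : ∀ i, algebraMap A S (h i) ∈ Ideal.span (Set.range x)) :
    ∃ (c : Matrix (Fin n) (Fin n) S) (Δ : A), (∀ i, algebraMap A S (h i) = ∑ j, c i j * x j) ∧
      algebraMap A S Δ = c.det := by
  classical
  haveI := Fintype.ofFinite G
  obtain ⟨κ, hκ⟩ := hu.exists_left_inv
  choose a ha using fun i => Ideal.mem_span_range_iff_exists_fun.1 (hh i)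
  let φ : G → S →+* S := fun g => MulSemiringAction.toRingHom G S g
  let m : G → Matrix (Fin n) (Fin n) S := fun g => (M g).map (algebraMap A S)
  let T : G → Matrix (Fin n) (Fin n) S := fun g => (φ g).mapMatrix (Matrix.of a) * (m g).transpose
  let c : Matrix (Fin n) (Fin n) S := algebraMap A S κ • ∑ g, T g
  have hv : ∀ g, (m g).transpose.mulVec x = fun i => φ g (x i) := fun g => funext fun i => (hact g i).symm
  have hax : (Matrix.of a).mulVec x = fun i => algebraMap A S (h i) := funext ha
  have hφA : ∀ g b, φ g (algebraMap A S b) = algebraMap A S b := fun g b => smul_algebraMap g b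
  have hT : ∀ g, (T g).mulVec x = fun i => algebraMap A S (h i) := fun g => by
    rw [← Matrix.mulVec_mulVec, hv]
    funext i
    rw [← hφA g (h i), ← ha i, map_sum]
    simp only [map_mul]
    rfl
  have hc : c.mulVec x = fun i => algebraMap A S (h i) := by
    rw [Matrix.smul_mulVec, Matrix.sum_mulVec]
    funext i
    simp only [hT, Finset.sum_const, Finset.card_univ, Pi.smul_apply, nsmul_eq_mul, smul_eq_mul, Pi.mul_apply,
      Pi.natCast_apply, ← Nat.card_eq_fintype_card]
    rw [← mul_assoc, ← map_natCast (algebraMap A S), ← map_mul, hκ, map_one, one_mul]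
  have hfix : ∀ g, c = (φ g).mapMatrix c * (m g).transpose := fun g => by
    simp only [c, RingHom.mapMatrix_apply]
    rw [Matrix.map_smul' _ _ _ (map_mul (φ g)), hφA, Matrix.smul_mul]
    refine congrArg _ ?_
    rw [← RingHom.mapMatrix_apply, map_sum, Finset.sum_mul]
    refine (Fintype.sum_equiv (Equiv.mulLeft g) _ _ fun k => ?_).symm
    show (φ g).mapMatrix (T k) * (m g).transpose = T (g * k)
    have e1 : (φ g).mapMatrix ((φ k).mapMatrix (Matrix.of a)) = (φ (g * k)).mapMatrix (Matrix.of a) :=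
      Matrix.ext fun i j => (mul_smul g k (a i j)).symm
    have e2 : (φ g).mapMatrix (m k).transpose = (m k).transpose := Matrix.ext fun i j => hφA g _
    have e3 : m (g * k) = m g * m k := by simp only [m, hmul, Matrix.map_mul]
    rw [map_mul, e1, e2, mul_assoc, ← Matrix.transpose_mul, ← e3]
  obtain ⟨Δ, hΔ⟩ := Algebra.IsInvariant.isInvariant (A := A) (B := S) (G := G) c.det fun g => by
    have e := congrArg Matrix.det (hfix g)
    rw [Matrix.det_mul, Matrix.det_transpose, ← RingHom.map_det,
      show (m g).det = 1 by rw [← map_one (algebraMap A S), ← hdet g]; exact (RingHom.map_det _ _).symm, mul_one] at e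
    exact e.symm
  exact ⟨c, Δ, fun i => (congrFun hc i).symm, hΔ⟩

/-- Watanabe's theorem at a fixed prime generated by a semi-invariant system of parameters. -/
theorem gor_atPrime_of_det [IsDomain S] [IsNoetherianRing S] (hu : IsUnit ((Nat.card G : ℕ) : A)) (P : Ideal S) [P.IsPrime]
    {n : ℕ} (x : Fin n → S) (hx : P = Ideal.span (Set.range x))
    [IsRegularLocalRing (Localization.AtPrime P)] (hdim : ringKrullDim (Localization.AtPrime P) = n)
    (M : G → Matrix (Fin n) (Fin n) A) (hmul : ∀ g h, M (g * h) = M g * M h) (hdet : ∀ g, (M g).det = 1)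
    (hact : ∀ g i, g • x i = ∑ j, algebraMap A S (M g j i) * x j) :
    LocCoh.IsGorensteinLocalRing (Localization.AtPrime (P.under A)) := by
  classical
  obtain ⟨π, hπ⟩ := exists_average (A := A) (S := S) (G := G) hu
  haveI := isNoetherianRing_of_retraction hπ
  haveI : Algebra.IsIntegral A S := Algebra.IsInvariant.isIntegral A S G
  have hP : ∀ g : G, ∀ y ∈ P, g • y ∈ P := fun g y hy => by
    obtain ⟨b, rfl⟩ := Ideal.mem_span_range_iff_exists_fun.1 (hx ▸ hy : y ∈ Ideal.span (Set.range x))
    rw [Finset.smul_sum]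
    refine sum_mem fun i _ => ?_
    rw [smul_mul', hact]
    exact P.mul_mem_left _ (sum_mem fun j _ => P.mul_mem_left _ (hx.ge (Ideal.subset_span ⟨j, rfl⟩)))
  let T := Localization.AtPrime P
  set q := P.under A with hq
  have hhP : P.height = n := by
    have := IsLocalization.AtPrime.ringKrullDim_eq_height P T
    rw [hdim] at this
    exact_mod_cast this.symm
  have hle : q.height ≤ n := height_le_of_forall_over n q fun Q hQ e => by
    haveI := hQ
    rw [eq_of_under_eq (G := G) P hP Q e, hhP]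
  have hmaxS : ∀ h : Set A, q ∈ (Ideal.span h).minimalPrimes → P ∈ (Ideal.span (algebraMap A S '' h)).minimalPrimes := fun s hs => by
    refine ⟨⟨‹_›, Ideal.span_le.2 ?_⟩, fun Q hQ hQP => ?_⟩
    · rintro _ ⟨a, ha, rfl⟩
      exact hs.1.2 (Ideal.subset_span ha)
    · haveI := hQ.1
      have h1 : Ideal.span s ≤ Q.under A :=
        Ideal.span_le.2 fun a ha => hQ.2 (Ideal.subset_span ⟨a, ha, rfl⟩)
      exact (eq_of_under_eq (G := G) P hP Q (le_antisymm (Ideal.comap_mono hQP) (hs.2 ⟨inferInstance, h1⟩ (Ideal.comap_mono hQP)))).ge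
  obtain ⟨s, hs, hscard⟩ := Ideal.exists_finset_card_eq_height_of_isNoetherianRing q
  have hn : s.card = n := by
    have h1 : (s.card : ℕ∞) ≤ n := hscard ▸ hle
    have h2 : P.height ≤ (Set.ncard (algebraMap A S '' (s : Set A)) : ℕ∞) :=
      Ideal.height_le_card_of_mem_minimalPrimes_span (s.finite_toSet.image _) (hmaxS _ hs)
    rw [hhP] at h2
    refine le_antisymm (by exact_mod_cast h1) (Nat.le_trans (by exact_mod_cast h2) ?_)
    exact Finset.card_image_le
  let h : Fin n → A := fun i => (s.equivFinOfCardEq hn).symm i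
  have hrange : Set.range h = (s : Set A) := by
    ext a
    exact ⟨fun ⟨i, e⟩ => e ▸ ((s.equivFinOfCardEq hn).symm i).2, fun ha => ⟨s.equivFinOfCardEq hn ⟨a, ha⟩, by simp [h]⟩⟩
  have hhq : ∀ i, h i ∈ q := fun i => hs.1.2 (Ideal.subset_span (hrange ▸ ⟨i, rfl⟩))
  obtain ⟨c, Δ, hc, hΔ⟩ := exists_invariant_det hu x M hmul hdet hact h fun i => hx ▸ hhq i
  -- the picture in `T`
  let f : Fin n → T := fun i => algebraMap A T (h i)
  have hfA : ∀ a, algebraMap A T a = algebraMap S T (algebraMap A S a) := fun a =>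
    IsScalarTower.algebraMap_apply A S T a
  have hspan : Ideal.span (Set.range f) = (Ideal.span (Set.range h)).map (algebraMap A T) := by
    rw [Ideal.map_span, ← Set.range_comp]; rfl
  obtain ⟨hreg, hcx, hΔI, hsoc⟩ := det_socle f (fun j => algebraMap S T (x j))
    (by rw [← Localization.AtPrime.map_eq_maximalIdeal, congrArg (Ideal.map (algebraMap S T)) hx, Ideal.map_span, ← Set.range_comp]; rfl)
    ((algebraMap S T).mapMatrix c) (fun i => by simp [f, hfA, hc, map_sum]) hdim
    (fun i => by
      rw [← Localization.AtPrime.map_eq_maximalIdeal]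
      show algebraMap A T (h i) ∈ _
      rw [hfA]
      exact Ideal.mem_map_of_mem _ (hhq i))
    (fun p hp hfp => by
      have hPp : p.comap (algebraMap S T) ≤ P :=
        (IsLocalization.AtPrime.orderIsoOfPrime T P ⟨p, hp⟩).2.2
      have h1 : Ideal.span (algebraMap A S '' (s : Set A)) ≤ p.comap (algebraMap S T) := by
        rw [Ideal.span_le]
        rintro _ ⟨a, ha, rfl⟩
        obtain ⟨i, rfl⟩ : a ∈ Set.range h := hrange ▸ ha
        show algebraMap S T _ ∈ p
        rw [← hfA]
        exact hfp (Ideal.subset_span ⟨i, rfl⟩)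
      have h2 := le_antisymm hPp ((hmaxS _ hs).2 ⟨inferInstance, h1⟩ hPp)
      rw [← IsLocalization.map_under P.primeCompl T p, show p.under S = P from h2, Localization.AtPrime.map_eq_maximalIdeal])
  have hcdet : ((algebraMap S T).mapMatrix c).det = algebraMap A T Δ := by
    rw [← RingHom.map_det, ← hΔ, hfA]
  rw [hcdet] at hcx hΔI hsoc
  -- contraction to `L`
  let L := Localization.AtPrime q
  have hcon : ∀ (I : Ideal A) (a : A), algebraMap A T a ∈ I.map (algebraMap A T) →
      algebraMap A L a ∈ I.map (algebraMap A L) := fun I a ha => by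
    rw [hfA, IsScalarTower.algebraMap_eq A S T, ← Ideal.map_map,
      IsLocalization.algebraMap_mem_map_algebraMap_iff P.primeCompl] at ha
    obtain ⟨t, ht, hta⟩ := ha
    obtain ⟨N, t', hN, hNq⟩ := exists_norm (A := A) (G := G) P hP (show t ∉ P from ht)
    rw [IsLocalization.algebraMap_mem_map_algebraMap_iff q.primeCompl]
    refine ⟨N, hNq, mem_of_mem_map hπ ?_⟩
    rw [map_mul, hN, mul_assoc]
    exact Ideal.mul_mem_left _ _ hta
  have hup : ∀ (I : Ideal A) (a : A), algebraMap A L a ∈ I.map (algebraMap A L) →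
      algebraMap A T a ∈ I.map (algebraMap A T) := fun I a ha => by
    rw [IsLocalization.algebraMap_mem_map_algebraMap_iff q.primeCompl] at ha
    obtain ⟨w, hw, hwa⟩ := ha
    have hu' : IsUnit (algebraMap A T w) := by rw [hfA]; exact IsLocalization.map_units T (⟨_, hw⟩ : P.primeCompl)
    refine (Ideal.unit_mul_mem_iff_mem _ hu').1 ?_
    rw [← map_mul]
    exact Ideal.mem_map_of_mem _ hwa
  have hcomap : ∀ a, algebraMap A L a ∈ maximalIdeal L ↔ a ∈ q := fun a =>
    IsLocalization.AtPrime.to_map_mem_maximal_iff L q a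
  let rs : List A := List.ofFn h
  have hofList : ∀ l : List A, ∀ (R : Type u) [CommRing R] (ψ : A →+* R),
      Ideal.ofList (l.map ψ) = (Ideal.ofList l).map ψ := fun l R _ ψ => (Ideal.map_ofList ψ l).symm
  have hrsT : rs.map (algebraMap A T) = List.ofFn f := List.map_ofFn
  have hwreg : RingTheory.Sequence.IsWeaklyRegular L (rs.map (algebraMap A L)) := by
    have hwT : RingTheory.Sequence.IsWeaklyRegular T (rs.map (algebraMap A T)) := hrsT ▸ hreg.toIsWeaklyRegular
    refine ⟨fun i hi => ?_⟩
    rw [List.length_map] at hi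
    have hTi := hwT.regular_mod_prev i (by rwa [List.length_map])
    have e : ∀ (R : Type u) [CommRing R] (ψ : A →+* R),
        (Ideal.ofList ((rs.map ψ).take i) • (⊤ : Submodule R R)) = (Ideal.ofList (rs.take i)).map ψ := fun R _ ψ => by
      rw [show (rs.map ψ).take i = (rs.take i).map ψ by simp [List.map_take], hofList]
      exact Ideal.mul_top _
    rw [isSMulRegular_quotient_iff_mem_of_smul_mem, e T (algebraMap A T), List.getElem_map] at hTi
    rw [isSMulRegular_quotient_iff_mem_of_smul_mem, e L (algebraMap A L), List.getElem_map]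
    intro y hy
    obtain ⟨a, w, rfl⟩ := IsLocalization.exists_mk'_eq q.primeCompl y
    rw [smul_eq_mul] at hy
    rw [IsLocalization.mk'_mem_map_algebraMap_iff]
    rw [← IsLocalization.algebraMap_mem_map_algebraMap_iff q.primeCompl L]
    refine hcon _ _ (hTi _ ?_)
    rw [smul_eq_mul, ← map_mul]
    refine hup _ _ ?_
    rw [map_mul, ← IsLocalization.mk'_spec L a w, ← mul_assoc]
    exact Ideal.mul_mem_right _ _ hy
  refine gor_of_quot_list (rs.map (algebraMap A L)) (fun r hr => ?_) hwreg ?_
  · obtain ⟨a, ha, rfl⟩ := List.mem_map.1 hr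
    obtain ⟨i, rfl⟩ := List.mem_ofFn.1 ha
    exact (hcomap _).2 (hhq i)
  set I := Ideal.span (Set.range h) with hI
  have hI' : Ideal.ofList (rs.map (algebraMap A L)) = I.map (algebraMap A L) := by
    rw [hofList]; exact congrArg _ (congrArg Ideal.span (Set.ext fun _ => List.mem_ofFn))
  rw [hI']
  have hIm : I.map (algebraMap A L) ≤ maximalIdeal L :=
    Ideal.map_le_iff_le_comap.2 (Ideal.span_le.2 (by rintro _ ⟨i, rfl⟩; exact (hcomap _).2 (hhq i)))
  haveI : Nontrivial (L ⧸ I.map (algebraMap A L)) := Ideal.Quotient.nontrivial_iff.2 fun e =>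
    (maximalIdeal.isMaximal L).ne_top (top_le_iff.1 (e.ge.trans hIm))
  haveI : IsLocalRing (L ⧸ I.map (algebraMap A L)) :=
    IsLocalRing.of_surjective' (Ideal.Quotient.mk _) Ideal.Quotient.mk_surjective
  haveI := krullDimLE_zero_quotient (T := L) (I := I.map (algebraMap A L)) fun p hp hIp => by
    have hpq : p.comap (algebraMap A L) ≤ q := (IsLocalization.AtPrime.orderIsoOfPrime L q ⟨p, hp⟩).2.2
    have h2 := le_antisymm hpq (hs.2 ⟨inferInstance, hrange ▸ Ideal.map_le_iff_le_comap.1 hIp⟩ hpq)
    rw [← IsLocalization.map_under q.primeCompl L p, show p.under A = q from h2, Localization.AtPrime.map_eq_maximalIdeal]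
  have h0 : ringKrullDim (L ⧸ I.map (algebraMap A L)) = 0 :=
    le_antisymm (Ring.krullDimLE_iff.1 inferInstance) ringKrullDim_nonneg_of_nontrivial
  refine H02CA.GorFlat.gor_of_socleCyclic h0 ⟨Ideal.Quotient.mk _ (algebraMap A L Δ), ?_, ?_⟩
  · intro r hr
    obtain ⟨r, rfl⟩ := Ideal.Quotient.mk_surjective r
    have hr' : r ∈ maximalIdeal L := fun hu' => hr (hu'.map _)
    obtain ⟨a, w, rfl⟩ := IsLocalization.exists_mk'_eq q.primeCompl r
    have ha : a ∈ q := (IsLocalization.AtPrime.mk'_mem_maximal_iff L q a w).1 hr'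
    rw [← map_mul, Ideal.Quotient.eq_zero_iff_mem, IsLocalization.mk'_eq_mul_mk'_one, mul_comm (algebraMap A L a),
      mul_assoc]
    refine Ideal.mul_mem_left _ _ ?_
    rw [← map_mul]
    refine hcon _ _ ?_
    rw [← hspan, map_mul]
    obtain ⟨b, hb⟩ := Ideal.mem_span_range_iff_exists_fun.1 (hx ▸ ha : algebraMap A S a ∈ Ideal.span (Set.range x))
    rw [hfA a, ← hb, map_sum, Finset.sum_mul]
    exact sum_mem fun j _ => by
      rw [map_mul, mul_assoc, mul_comm (algebraMap S T (x j))]
      exact Ideal.mul_mem_left _ _ (hcx j)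
  intro y hy
  obtain ⟨y, rfl⟩ := Ideal.Quotient.mk_surjective y
  obtain ⟨a, w, rfl⟩ := IsLocalization.exists_mk'_eq q.primeCompl y
  by_cases haI : algebraMap A L a ∈ I.map (algebraMap A L)
  · refine ⟨0, ?_⟩
    rw [zero_mul, eq_comm, Ideal.Quotient.eq_zero_iff_mem, IsLocalization.mk'_eq_mul_mk'_one]
    exact Ideal.mul_mem_right _ _ haI
  have hlt : Ideal.span (Set.range f) < (I ⊔ Ideal.span {a}).map (algebraMap A T) := by
    rw [hspan]
    exact lt_of_le_of_ne (Ideal.map_mono le_sup_left) fun e => haI (hcon _ _ (e ▸ Ideal.mem_map_of_mem _ (Ideal.mem_sup_right (Ideal.mem_span_singleton_self a))))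
  have hΔL := hcon _ _ (hsoc _ hlt)
  rw [Ideal.map_sup, Ideal.map_span _ ({a} : Set A), Set.image_singleton] at hΔL
  obtain ⟨i, hi, j, hj, e⟩ := Submodule.mem_sup.1 hΔL
  obtain ⟨b, rfl⟩ := Ideal.mem_span_singleton'.1 hj
  have hbu : IsUnit b := by
    by_contra hb
    refine hΔI ?_
    rw [hspan]
    refine hup _ _ ?_
    rw [← e]
    refine add_mem hi (Ideal.Quotient.eq_zero_iff_mem.1 ?_)
    have := hy (Ideal.Quotient.mk _ b) (by
      rw [← IsLocalRing.map_maximalIdeal_of_surjective (Ideal.Quotient.mk (I.map (algebraMap A L))) Ideal.Quotient.mk_surjective]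
      exact Ideal.mem_map_of_mem _ hb)
    rw [← IsLocalization.mk'_spec L a w, ← mul_assoc, map_mul, map_mul, this, zero_mul]
  refine ⟨Ideal.Quotient.mk _ (↑hbu.unit⁻¹ * IsLocalization.mk' L 1 w), ?_⟩
  rw [← map_mul, Ideal.Quotient.eq, IsLocalization.mk'_eq_mul_mk'_one (M := q.primeCompl) a w, ← e]
  have e1 : (↑hbu.unit⁻¹ * IsLocalization.mk' L 1 w) * (i + b * algebraMap A L a) -
      algebraMap A L a * IsLocalization.mk' L 1 w =
      (↑hbu.unit⁻¹ * IsLocalization.mk' L 1 w) * i +
        (↑hbu.unit⁻¹ * b - 1) * (algebraMap A L a * IsLocalization.mk' L 1 w) := by ring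
  rw [e1, hbu.val_inv_mul, sub_self, zero_mul, add_zero]
  exact Ideal.mul_mem_left _ _ hi

end Groth.Agent.H8Props.Watanabe
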